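import Cfsg.Agent.JP.G
import Cfsg.Agent.Bt.Part

/-! Matrices and checks. -/

set_option autoImplicit false
set_option maxRecDepth 1000000
set_option maxHeartbeats 0
set_option synthInstance.maxSize 1000

namespace CF.JP
open CF.Comp CF.Dce CF.J4 CF.Bt

/-- the element of order three without fixed points -/
noncomputable def D0 : ℕ := (nat_lit 0xc00800202101088044010030080040200100)
/-- a three-cycle -/
noncomputable def X0 : ℕ := (nat_lit 0x8004003002000400c002001000400c003002)
/-- another three-cycle -/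
noncomputable def Y0 : ℕ := (nat_lit 0x8037032b017020010002001000200101a015)
/-- an involution inverting `D0` -/
noncomputable def s0 : ℕ := (nat_lit 0x400800002001008004010020080040200100)
/-- the central transvection -/
noncomputable def t0 : ℕ := (nat_lit 0x810420200100080040020010008004002001)
/-- the new element -/
noncomputable def g0 : ℕ := (nat_lit 0x200301873ca3c518ec0040014a2c734e285)
/-- a basis -/
noncomputable def A0 : ℕ := (nat_lit 0x80008040004200002100001800400030010)
/-- its inverse -/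
noncomputable def Ai0 : ℕ := (nat_lit 0x8004080020800200003001400100040010)
/-- a basis adapted to `X0` and `D0` -/
noncomputable def A2 : ℕ := (nat_lit 0x2011030c404830110208404c800400030010)
/-- its inverse -/
noncomputable def Ai2 : ℕ := (nat_lit 0x8004c408801302200030013201108c0440)
noncomputable def NL : List ℕ := [(nat_lit 0x800400200100080040020010008004002001), (nat_lit 0x900401200100080050020010008024002001),
  (nat_lit 0xa00402200100090040020010028004002001), (nat_lit 0xb00403200100090050020010028024002001),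
  (nat_lit 0x840404200110080040020010008004002021), (nat_lit 0x950425200110080050020010008024002021),
  (nat_lit 0xa40406200110090040020010028004002021), (nat_lit 0xb50427200110090050020010028024002021),
  (nat_lit 0x880408210100080040020010008004022001), (nat_lit 0x980409210100080050020010008024022001),
  (nat_lit 0xa9042a210100090040020010028004022001), (nat_lit 0xb9042b210100090050020010028024022001),
  (nat_lit 0x8c040c210110080040020010008004022021), (nat_lit 0x9d042d210110080050020010008024022021),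
  (nat_lit 0xad042e210110090040020010028004022021), (nat_lit 0xbc040f210110090050020010028024022021)]
noncomputable def BL : List ℕ := [(nat_lit 0x0), (nat_lit 0x20110308404c020010), (nat_lit 0x800400200100002001), (nat_lit 0x20310208c048020010),
  (nat_lit 0x8034c32a516501500f), (nat_lit 0x8c040c210110021003), (nat_lit 0x800400080040008004),
  (nat_lit 0x8c84842c9187029017), (nat_lit 0xa00402090040028004), (nat_lit 0x8814802d7180037009),
  (nat_lit 0xb0040309005002400c), (nat_lit 0x8c34c029515503500f), (nat_lit 0x8c444824b1c602601b),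
  (nat_lit 0x900401080050024008), (nat_lit 0x880408210100022001), (nat_lit 0x8024422401eb01b006),
  (nat_lit 0x84848c2c718e02901e), (nat_lit 0x840404200110021002), (nat_lit 0x8014812e7180017009),
  (nat_lit 0x84c4c828514f02f01a), (nat_lit 0x88c4c428f14a02f015), (nat_lit 0x88444c24d1cb02601d),
  (nat_lit 0x8424402401db03b006), (nat_lit 0x0)]
/-- labels of orbits -/
noncomputable def LB : ℕ := (nat_lit 0x1334324334234331314334232334433134132334324343314331433243324331332414334233334124334133332433414233331424333341334233413342334132344323134334314323234331343431234332344313343134323432343134314444333333331221333333334444212133334444333322111111111111111110)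
noncomputable def F0 : List ℕ := [0, 16, 32, 48, 1024, 1040, 1056, 1072, 2048, 2064, 2080, 2096, 3072, 3088, 3104, 3120]
noncomputable def F1 : List ℕ := [0, 76, 132, 200, 258, 334, 390, 458, 515, 591, 647, 715, 769, 845, 901, 969]
noncomputable def F2 : List ℕ := [0, 72, 140, 196, 259, 331, 399, 455, 513, 585, 653, 709, 770, 842, 910, 966]
noncomputable def WL : List (List ℕ) := [[4, 2, 1, 2, 2, 1, 1, 2, 5], [5, 2, 1, 2, 2, 1, 1, 2, 4], [4, 4, 4], [4, 0, 5, 0, 4, 0, 5],
  [4, 0, 1, 5, 0, 4, 1, 1, 0, 5], [4, 0, 5, 2, 0, 2, 2, 0, 4, 0, 5], [4, 2, 5, 2, 0, 2, 2, 4, 2, 2, 5],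
  [5, 0, 5, 0, 1, 0, 5, 0, 5], [4, 0, 4, 0, 4, 0, 5], [4, 2, 2, 5, 0, 4, 2, 5], [4, 0, 4, 0, 1, 0, 4, 0, 5]]
noncomputable def WG : List (List ℕ) := [[4], [1, 4], [1, 1, 4], [2, 1, 0, 4, 2, 4, 0, 1, 4, 0], [2, 1, 0, 1, 3, 4, 2, 1, 4, 0, 5, 0],
  [2, 1, 0, 1, 1, 3, 4, 2, 1, 5, 0, 4, 0]]
noncomputable def WA : List (List ℕ) := [[0, 2, 1, 2, 0, 4, 2, 1, 2, 0, 1], [2, 5, 2, 5, 2, 1, 4, 2, 0, 2, 2], [5, 4, 0, 4, 2, 2, 0, 2, 5, 4],
  [2, 1, 1, 2, 5, 2, 1, 2]]
noncomputable def wK : List ℕ := [2, 1, 1, 2, 2, 1, 2]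
noncomputable def wU : List ℕ := [0, 4, 2, 1, 1, 0, 4, 0]

/-- the matrices of the elements of `L` -/
noncomputable def Nm (m : ℕ) : ℕ := nth 0 NL m
/-- the possible images of `c` -/
noncomputable def cand (a b c : ℕ) : List ℕ := force (enc (tn (mu c) a b)) fun y => [y, y ^^^ 16, y ^^^ 32, y ^^^ 48]
noncomputable def CSg (a b : ℕ) (cT : List ℕ) : List (List ℕ) :=
  [[vm 3 1 b % 4 * 16], cT, cand a b 1, cand a b 2, cand a b 4, cand a b 8]
noncomputable def rn (m c : ℕ) : ℕ := c ^^^ cmf (mu c) (m * 256) % 4 * 16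
noncomputable def CSn (m : ℕ) : List (List ℕ) := [[rn m 16], List.range 4096, [rn m 1], [rn m 2], [rn m 4], [rn m 8]]
noncomputable def nrel (a b Y : ℕ) : Bool :=
  lall (fun m => Nat.beq (mm 12 (Nm m) Y) (mm 12 Y (Nm (tn (m * 256) a b / 256)))) [1, 2, 4, 8]
/-- a search with one list for each row -/
noncomputable def dfsOK1 (A Ai : ℕ) (CS : ℕ → List ℕ) (fin : ℕ → Bool) : Bool :=
  Bool.rec false (dfs A (fun t _ => CS t) (fun Y => force (mm 12 Ai Y) fin) 12 0 0) (Nat.beq (mm 12 Ai A) (mo 12))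

theorem dfs1_sound {A Ai : ℕ} {CS : ℕ → List ℕ} {fin : ℕ → Bool} (e : dfsOK1 A Ai CS fin = true) {X : ℕ}
    (hX : Iso X) (hl : X < 2 ^ (12 * 12)) (hc : ∀ t < 12, vm 12 (fld 12 A t) X ∈ CS t) : fin X = true := by
  rw [dfsOK1, brec_and, beq_iff] at e
  have := dfs_aux hX (fun t ht _ _ => hc t ht) 12 0 0 rfl one_pos (fun _ h => absurd h (Nat.not_lt_zero _)) e.2
  rwa [force_eq, ← mm_assoc (by norm_num), e.1, mo_mm (by norm_num) hl] at this

theorem chkD : dfsOK1 A0 Ai0 (fun t => nth (cand 33825 267 (fld 12 A0 t)) [[48], [32], [2048], [3072]] t)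
    (Nat.beq D0) = true := by decide +kernel
theorem chkX : dfsOK D0 D0 A0 Ai0 (CSg 19506 273 [1024]) (Nat.beq X0) = true := by decide +kernel
theorem chkN : allFrom (fun m => dfsOK D0 D0 A0 Ai0 (CSn m) fun Y =>
    imp (Nat.beq (pm (mm 12 Y X0) 3) (mo 12)) (Nat.beq (Nm m) Y)) (nat_lit 0) 16 = true := by decide +kernel
theorem chkY : dfsOK D0 D0 A0 Ai0 (CSg 8613 273 (List.range 4096)) (fun Y => imp (nrel 8613 273 Y)
    (imp (Nat.beq (pm Y 3) (mo 12)) (lany (fun m => Nat.beq (mm 12 Y (Nm m)) Y0) (List.range 16)))) = true := by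
  decide +kernel
theorem chkS : dfsOK D0 (mm 12 D0 D0) A0 Ai0 (CSg 33825 266 (List.range 4096)) (fun Y => imp (nrel 33825 266 Y)
    (lany (fun m => lany (Nat.beq (mm 12 Y (Nm m))) [s0, mm 12 s0 t0]) (List.range 16))) = true := by decide +kernel

/-- the test for the stabiliser of a line -/
noncomputable def kt (W : ℕ) : Bool := force W fun W => imp (lany (Nat.beq (vm 12 16 W)) [16, 32, 48])
  (lall (fun c => Nat.beq (dg LB (mu (vm 12 c W))) (dg LB (mu c))) [1, 2, 3, 4, 66, 72])
theorem chkL : (∀ a ∈ S5c, ∀ c ∈ [1, 2, 3, 4, 66, 72], mm 4 (mu c) a < 256 ∧ dg LB (mm 4 (mu c) a) = dg LB (mu c)) ∧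
    ∀ b ∈ GL3c, vm 3 4 b = 4 → ∀ m < 256, dg LB (mm 4 (lam b) m) = dg LB m := by decide +kernel
theorem chkG : dfsOK D0 D0 A2 Ai2 [[1024], F0, F1, F1, F2, F2] (fun G => Comp.forceL [Nm 1, X0, Y0, D0, G, pm G 5] fun L =>
    imp (lall (fun w => kt (evP L w)) WL) (lany (fun w => Nat.beq (evP L w) g0) WG)) = true := by decide +kernel
theorem chkF : Comp.forceL [mm 12 X0 D0, mm 12 (mm 12 X0 D0) D0] (fun L => allBin (fun y => lall id
    [imp (Nat.beq (vm 12 y X0) y) (lany (Nat.beq y) F0), imp (Nat.beq (vm 12 y (nth 0 L 0)) y) (lany (Nat.beq y) F1),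
      imp (Nat.beq (vm 12 y (nth 0 L 1)) y) (lany (Nat.beq y) F2), imp (Nat.beq (vm 12 y D0) y) (Nat.beq y 0),
      imp (Nat.beq (qq y) 0) (imp (Nat.beq (bb y 1024) 0) (imp (lany (Nat.beq (vm 12 y X0)) [0, 1024, y, y ^^^ 1024])
        (lany (Nat.beq y) [0, 1024, 2048, 3072, 32, 1056])))]) 4096 12 0) = true := by decide +kernel
theorem chkB : kt (evP [g0, mm 12 t0 (mm 12 g0 t0)] [0, 1, 0]) = false := by decide +kernel

/-- a test for all unions -/
noncomputable def allU (k : ℕ → Bool) (Os : List ℕ) : ℕ → Bool :=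
  List.rec (motive := fun _ => ℕ → Bool) k (fun o _ ih F => Bool.rec false (force (Nat.lor F o) ih) (ih F)) Os
/-- the perpendicular space -/
noncomputable def prp (v : ℕ) : ℕ := maskP 4096 fun u => Nat.beq (bb u v) 0
/-- unions of orbits with a constant number of perpendicular points -/
noncomputable def cntOK (s : ℕ) (reps : List ℕ) : Bool := Comp.forceL [Nm 1, X0, Y0, D0, s] fun Ms =>
  Comp.forceL (lmap (fun r => bfs 12 Ms 6000 [r] 0) reps) fun Os => forceP (lmap (fun r => (r, prp r)) reps) fun P =>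
    force (prp 16) fun p => Bool.rec false (allU (fun F => imp (tb F 16) (imp (lall (fun x : ℕ × ℕ => imp (tb F x.1)
      (Nat.beq (pop 4096 (Nat.land F x.2)) (pop 4096 (Nat.land F p)))) P) (Bool.rec (Bool.rec
        (allBin (fun v => imp (tb F v) (lany (Nat.beq v) [16, 32, 48])) 4096 12 0) true (tb F 1056)) true (tb F 1024)))) Os 0)
      (allBin (fun v => imp (Nat.beq (qq v) 0) (Bool.rec (lany (tb · v) Os) true (Nat.beq v 0))) 4096 12 0)
theorem chkC : cntOK s0 [1, 5, 16, 66, 72, 1024, 1029, 1344] = true := by decide +kernel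
theorem chkC' : cntOK (mm 12 s0 t0) [1, 5, 16, 66, 72, 1024, 1344, 1349] = true := by decide +kernel
/-- the singular vectors outside `F` -/
noncomputable def out (F : ℕ) : List ℕ := lfil (fun v => Bool.rec false (Bool.rec (Bool.rec true false (tb F v)) false
  (Nat.beq v 0)) (Nat.beq (qq v) 0)) (List.range 4096)
theorem chkO : Comp.forceL [Nm 1, X0, Y0, D0, g0] (fun Ms => force (bfs 12 Ms 8000 [1056] 0) fun F =>
    Nat.ble (llen (out F)) 693) = true := by decide +kernel

/-- membership in a plane -/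
noncomputable def inB (j v : ℕ) : Bool := allFrom (fun k => Nat.beq (bb v (row (nth 0 BL j) k)) 0) (nat_lit 0) 6
/-- `W` maps the plane `j` onto the plane `j'` -/
noncomputable def plOK (W j j' : ℕ) : Bool := force (mm 12 (nth 0 BL j) W) fun P => allFrom (fun k =>
  force (row (nth 0 BL j') k) fun r => lany (fun c => Nat.beq (vm 12 c P) r) (List.range 64)) (nat_lit 0) 6
theorem chkP : (∀ i < 4, force (evP [Nm 1, X0, Y0, D0, g0, s0] (nth [] WA i)) (fun W =>
    allFrom (fun j => plOK W j (appW nA [2 * i + 2] j)) (nat_lit 0) 24) = true) ∧ ∀ j < 24, plOK D0 j j = true := by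
  decide +kernel
theorem chkQ : ∀ j < 24, j ≠ 0 → j ≠ 23 → (∀ k < 6, inB j (row (nth 0 BL j) k) = true) ∧
    ∀ j' < 24, (∀ k < 6, inB j' (row (nth 0 BL j) k) = true) → j' = j ∨ j' = 0 ∨ j' = 23 := by decide +kernel

attribute [irreducible] D0 X0 Y0 s0 t0 g0 A0 Ai0 A2 Ai2 NL BL LB

end CF.JP
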